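import Cfsg.Agent.Lib.O83.Ct3

/-! Package ALL: the group generated by the 24 root subgroups.  See `plans/O83.md`. -/

set_option autoImplicit false
set_option linter.unusedSectionVars false

namespace CfsgLib.O83

open Subgroup CfsgLib.ExtraTwo CfsgLib.LargeExtra

variable {G : Type*} [Group G] {R Op : G → G → Prop} {u v a n r g : G}

theorem cinv (g : G) (h : v * r * v⁻¹ = r⁻¹) :
    g * v * g⁻¹ * (g * r * g⁻¹) * (g * v * g⁻¹)⁻¹ = (g * r * g⁻¹)⁻¹ := by
  calc _ = g * (v * r * v⁻¹) * g⁻¹ := by group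
    _ = _ := by rw [h]; group

theorem inB_iff : InB a n r ↔ r = a ∨ r = a⁻¹ ∨ r = n * a * n⁻¹ ∨ r = (n * a * n⁻¹)⁻¹ := by
  rw [InB, conj_inv]

theorem InB.comm (h : InB a n r) (h1 : Commute g a) (h2 : Commute g n) : Commute g r := by
  rcases h with rfl | rfl | rfl | rfl
  exacts [h1, h1.inv_right, (h2.mul_right h1).mul_right h2.inv_right,
    (h2.mul_right h1.inv_right).mul_right h2.inv_right]

theorem InB.mem {K : Subgroup G} (h : InB a n r) (h1 : a ∈ K) (h2 : n ∈ K) : r ∈ K := by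
  rcases h with rfl | rfl | rfl | rfl
  exacts [h1, inv_mem h1, mul_mem (mul_mem h2 h1) (inv_mem h2), mul_mem (mul_mem h2 (inv_mem h1)) (inv_mem h2)]

theorem Blk.comm {a n : Fin 4 → G} (b : Blk u v a n) {i k : Fin 4} (h : i ≠ k) (hr : InB (a i) (n i) r) :
    Commute r (a k) ∧ Commute r (n k) :=
  ⟨(hr.comm (b.aa k i) (b.na k i h.symm)).symm, (hr.comm (b.na i k h).symm (b.nc k i)).symm⟩

theorem four_swap {b b' p p' x : G} (h : p = b ∨ p = b⁻¹ ∨ p = b' ∨ p = b'⁻¹)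
    (h' : p' = b ∨ p' = b⁻¹ ∨ p' = b' ∨ p' = b'⁻¹) (c : p * p' ≠ p' * p) (hx : x = b ∨ x = b⁻¹ ∨ x = b' ∨ x = b'⁻¹) :
    x = p ∨ x = p⁻¹ ∨ x = p' ∨ x = p'⁻¹ := by
  rcases h with e | e | e | e <;> rcases h' with e' | e' | e' | e' <;> rw [e, e'] at c ⊢ <;>
    first
    | exact absurd (by simp) c
    | (simp only [inv_inv]; tauto)
    | tauto

namespace Sys

variable (S : Sys R Op)
include S

theorem MM_conj (g : G) {x : G} (hx : x ∈ MM R u v) : g * x * g⁻¹ ∈ MM R (g * u * g⁻¹) (g * v * g⁻¹) := by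
  refine (closure_le ((MM R (g * u * g⁻¹) (g * v * g⁻¹)).comap (MulAut.conj g).toMonoidHom)).2 ?_ hx
  rintro r (⟨a, b⟩ | ⟨a, b⟩ | ⟨a, b⟩)
  · exact subset_closure (.inl ⟨S.Rconj a g, cinv g b⟩)
  · exact Subgroup.subset_closure (.inr (.inl ⟨S.Rconj a g, cinv g b⟩))
  · refine Subgroup.subset_closure (.inr (.inr ⟨?_, cinv g b⟩))
    rw [conj_mul]
    exact S.Rconj a g

theorem MM_mul (h : Op u v) : MM R u (u * v) = MM R u v := by
  unfold MM
  congr 1
  ext r
  simp only [Set.mem_ofPred_eq, ← mul_assoc, (S.Ou h).1, one_mul]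
  rw [and_congr_right fun k => S.inv_mul k]
  tauto

theorem MM_symm (h : Op u v) : MM R v u = MM R u v := by
  unfold MM
  congr 1
  ext r
  simp only [Set.mem_ofPred_eq, ← (S.Ou h).2.2]
  rw [and_congr_right fun k => S.inv_third h k]
  tauto

theorem MM_third (h : Op u v) : MM R (u * v) u = MM R u v := (S.MM_symm (S.Omul h)).trans (S.MM_mul h)

theorem third (h : Op u v) : u * v * u = v := by rw [mul_assoc, ← (S.Ou h).2.2, ← mul_assoc, (S.Ou h).1, one_mul]

theorem MM_norm (h : Op u v) (hu : g * u * g⁻¹ = u) (hv : g * v * g⁻¹ = v ∨ g * v * g⁻¹ = u * v) :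
    g ∈ normalizer (MM R u v : Set G) := by
  have e : MM R (g * u * g⁻¹) (g * v * g⁻¹) = MM R u v := by
    rcases hv with hv | hv <;> rw [hu, hv]
    exact S.MM_mul h
  refine mem_normalizer_iff.2 fun x => ⟨fun hx => e ▸ S.MM_conj g hx, fun hx => ?_⟩
  rw [← e] at hx
  simpa [mul_assoc] using S.MM_conj g⁻¹ hx

theorem n_mem (h : Op u v) (s : SP R u v a n) {K : Subgroup G} (h1 : a ∈ K) (h2 : n * a * n⁻¹ ∈ K) : n ∈ K := by
  rw [n_eq (S.Ou h).1 s.nn (S.Rc s.rt) s.an]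
  exact mul_mem (mul_mem h1 h2) h1

theorem sp_mem (h : Op u v) (s : SP R u v a n) : a ∈ MM R u v ∧ n ∈ MM R u v := by
  have k : ∀ {a}, SP R u v a n → a ∈ MM R u v := fun s => subset_closure (.inl ⟨s.rt, s.inv⟩)
  exact ⟨k s, S.n_mem h s (k s) (k (S.sp_other h s))⟩

theorem conj_MM (h : Op u v) : ∃ g ∈ MM R u v, g * u * g⁻¹ = v := by
  obtain ⟨c, m, b, hR, -⟩ := S.blk (S.op_third h)
  have s := S.sp_blk b hR 0
  exact ⟨m 0, S.MM_third h ▸ (S.sp_mem (S.op_third h) s).2, (S.sp_n (S.op_third h) s).2.1.trans (S.third h)⟩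

/-- four standard pairs in different blocks give all root elements -/
theorem fill (h : Op u v) {K : Subgroup G} {p l : Fin 4 → G} (s : ∀ k, SP R u v (p k) (l k))
    (hp : ∀ k, p k ∈ K ∧ l k ∈ K) (hne : ∀ k k', k ≠ k' → ¬ InB (p k') (l k') (p k))
    (hr : R u r) (hi : v * r * v⁻¹ = r⁻¹) : r ∈ K := by
  obtain ⟨b, m, hb, -, all⟩ := S.blk h
  choose κ hκ using fun k => all (p k) (s k).rt (s k).inv
  have key : ∀ k x, InB (b (κ k)) (m (κ k)) x → InB (p k) (l k) x := fun k x hx => by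
    obtain ⟨j, hj⟩ := all _ (S.sp_other h (s k)).rt (S.sp_other h (s k)).inv
    have c := S.sp_not_comm h (s k)
    obtain rfl : κ k = j := by
      by_contra e
      exact c (hj.comm (hb.comm e (hκ k)).1 (hb.comm e (hκ k)).2)
    exact inB_iff.2 (four_swap (inB_iff.1 (hκ k)) (inB_iff.1 hj) c (inB_iff.1 hx))
  have inj : Function.Injective κ := fun k k' e => by
    by_contra c
    exact hne k k' c (key k' _ (e ▸ hκ k))
  obtain ⟨i, hi⟩ := all r hr hi
  obtain ⟨k, rfl⟩ := Finite.surjective_of_injective inj i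
  exact (key k r hi).mem (hp k).1 (hp k).2

theorem iso (h : Op u v) (hZ : ∀ g ∈ MM R u v, (∀ k ∈ MM R u v, g * k = k * g) → g = 1) :
    Nonempty (MM R u v ≃* PO3) := by
  obtain ⟨a0, n, b, hR, -⟩ := S.blk h
  have h3 := S.op_third h
  obtain ⟨c0, m0, b', hR', -⟩ := S.blk h3
  have t := S.sp_blk b' hR' 0
  generalize c0 0 = c at t
  generalize m0 0 = m at t
  have ex : ∀ i, ∃ a, InB (a0 i) (n i) a ∧ SP R u v a (n i) ∧ a * c ≠ c * a := fun i => by
    have s := S.sp_blk b hR i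
    by_cases e : c * a0 i = a0 i * c
    · exact ⟨_, .inr (.inr (.inl rfl)), S.sp_other h s, fun e' =>
        S.excl (S.Omul h) (S.sp_opp h s) t.rt t.inv e e'.symm⟩
    · exact ⟨_, .inl rfl, s, fun e' => e e'.symm⟩
  choose a a1 s a3 using ex
  have c1 : ∀ i, Commute c (n i * a i * (n i)⁻¹) := fun i =>
    (S.s2 (S.Omul h) (S.sp_opp h (s i)) t.rt t.inv).resolve_left fun e => a3 i e.symm
  have c2 : ∀ i, Commute (a i) (m * c * m⁻¹) := fun i =>
    (S.s2 h3 t (s i).rt (S.sp_opp h (s i)).inv).resolve_left (a3 i)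
  have an : ∀ {i k}, i ≠ k → Commute (a i) (n k) := fun e => (b.comm e (a1 _)).2
  have cM := S.MM_third h ▸ S.sp_mem h3 t
  refine recog3 hZ (fun e => S.R1 t.rt (mem_bot.1 (e ▸ cM.1))) (fun i => a i.castSucc) (fun i => n i.castSucc) c m
    (fun i => S.sp_mem h (s _)) cM.1 cM.2 (fun i => S.a2 h (s _) t (a3 _)) (fun i j e => ?_) fun K k1 k2 k3 => ?_
  · have e' : i.castSucc ≠ j.castSucc := fun k => e (Fin.castSucc_injective _ k)
    exact ⟨(a1 _).comm (b.comm e' (a1 _)).1 (an e'), an e', b.nc _ _⟩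
  have nK : ∀ i : Fin 3, n i.castSucc ∈ K := fun i => S.n_mem h (s _) (k1 i).1
    (by have := inv_mem (k1 i).2; rwa [← conj_inv, inv_inv] at this)
  have mK : m ∈ K := S.n_mem h3 t k2 (by have := inv_mem k3; rwa [← conj_inv, inv_inv] at this)
  let g : Fin 4 → G := ![1, n 0 * n 1, n 0 * n 2, n 1 * n 2]
  let τ : Fin 4 → Fin 4 → Bool := ![![false, false, false, false], ![true, true, false, false],
    ![true, false, true, false], ![false, true, true, false]]
  have f0 : ∀ {i j k}, i ≠ j → i ≠ k → (n j * n k)⁻¹ * a i * (n j * n k) = a i := fun e e' => by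
    rw [mul_assoc, ((an e).mul_right (an e')).eq, inv_mul_cancel_left]
  have f1 : ∀ {i j}, i ≠ j → (n j * n i)⁻¹ * a i * (n j * n i) = n i * a i * (n i)⁻¹ := fun {i j} e => by
    rw [← (S.sp_n h (s i)).2.2.2]
    calc _ = (n i)⁻¹ * ((n j)⁻¹ * (a i * n j)) * n i := by group
      _ = _ := by rw [(an e).eq, inv_mul_cancel_left]
  have f2 : ∀ {i j}, i ≠ j → (n i * n j)⁻¹ * a i * (n i * n j) = n i * a i * (n i)⁻¹ := fun {i j} e => by
    rw [b.nc i j, f1 e]
  have hg : ∀ k i, (g k)⁻¹ * a i * g k = if τ k i then n i * a i * (n i)⁻¹ else a i := fun k i => by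
    fin_cases k <;> fin_cases i <;> first
      | exact (mul_one _).trans ((congrArg (· * _) inv_one).trans (one_mul _))
      | exact f0 (by decide) (by decide)
      | exact f1 (by decide)
      | exact f2 (by decide)
  have cj : ∀ k i x, Commute (g k * x * (g k)⁻¹) (a i) ↔ Commute x ((g k)⁻¹ * a i * g k) := fun k i x => by
    rw [← Commute.conj_iff (g k) (a := x)]
    simp [mul_assoc]
  have ht : ∀ k i, Commute (g k * c * (g k)⁻¹) (a i) ↔ τ k i = true := fun k i => by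
    rw [cj, hg]
    split_ifs with e
    · exact iff_of_true (c1 i) e
    · exact iff_of_false (fun e' => a3 i e'.symm) e
  have t3 : ∀ k, τ k 3 = false := by decide
  have ti : ∀ k k', (∀ i, τ k i = true ↔ τ k' i = true) → k = k' := by decide
  have fx : ∀ i j, n i * n j * u * (n i * n j)⁻¹ = u ∧ n i * n j * (u * v) * (n i * n j)⁻¹ = u * v := fun i j => by
    refine ⟨?_, ?_⟩
    · calc _ = n i * (n j * u * (n j)⁻¹) * (n i)⁻¹ := by group
        _ = _ := by rw [(S.sp_n h (s j)).1, (S.sp_n h (s i)).1]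
    · calc _ = n i * (n j * (u * v) * (n j)⁻¹) * (n i)⁻¹ := by group
        _ = _ := by rw [(S.sp_n h (s j)).2.2.1, (S.sp_n h (s i)).2.1]
  have gu : ∀ k, g k * u * (g k)⁻¹ = u ∧ g k * (u * v) * (g k)⁻¹ = u * v := fun k => by
    fin_cases k
    exacts [⟨by simp [g], by simp [g]⟩, fx 0 1, fx 0 2, fx 1 2]
  have gK : ∀ k, g k ∈ K := fun k => by
    fin_cases k
    exacts [one_mem _, mul_mem (nK 0) (nK 1), mul_mem (nK 0) (nK 2), mul_mem (nK 1) (nK 2)]
  have cK : ∀ {g x : G}, g ∈ K → (g * x * g⁻¹ ∈ K ↔ x ∈ K) := fun e => by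
    rw [mul_mem_cancel_right (inv_mem e), mul_mem_cancel_left e]
  have r3 : ∀ r, R (u * v) r → u * r * u⁻¹ = r⁻¹ → r ∈ K := fun r hr hi => S.fill h3
    (p := fun k => g k * c * (g k)⁻¹) (l := fun k => g k * m * (g k)⁻¹)
    (fun k => by have := S.sp_conj t (g k); rwa [(gu k).1, (gu k).2] at this)
    (fun k => ⟨(cK (gK k)).2 k2, (cK (gK k)).2 mK⟩) (fun k k' e hb => by
      have d : Commute (g k' * m * (g k')⁻¹ * (g k' * c * (g k')⁻¹) * (g k' * m * (g k')⁻¹)⁻¹) (a 3) := by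
        rw [conj_mul, conj_inv, conj_mul, cj, hg, t3]
        exact (c2 3).symm
      have d' : ¬ Commute (g k * c * (g k)⁻¹) (a 3) := by rw [ht, t3]; decide
      rcases inB_iff.1 hb with e1 | e1 | e1 | e1
      · exact e (ti k k' fun i => by rw [← ht, ← ht, e1])
      · exact e (ti k k' fun i => by rw [← ht, ← ht, e1, Commute.inv_left_iff])
      · exact d' (e1 ▸ d)
      · exact d' (e1 ▸ d.inv_left)) hr hi
  have r2 : ∀ r, R v r → u * r * u⁻¹ = r⁻¹ → r ∈ K := fun r hr hi => (cK (nK 0)).1 (r3 _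
    ((S.sp_n h (s _)).2.1 ▸ S.Rconj hr _) (by have := cinv (n 0) hi; rwa [(S.sp_n h (s _)).1] at this))
  refine (closure_le K).2 ?_
  rintro r (⟨x, y⟩ | ⟨x, y⟩ | ⟨x, y⟩)
  · obtain ⟨-, e1, e2, -⟩ := S.sp_n h3 t
    rw [S.third h] at e1 e2
    exact (cK mK).1 (r2 _ (e1 ▸ S.Rconj x m) (by have := cinv m y; rwa [e2] at this))
  · exact r2 r x y
  · exact r3 r x y

end Sys

end CfsgLib.O83
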