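import Cfsg.Agent.Lib.O83.Sys
import Cfsg.Agent.Lib.O83.All
import Cfsg.Agent.Lib.O83.Sk

/-! Package CBF: the subgroup `PΩ₈⁺(3)`.  See `plans/O83.md`. -/

set_option autoImplicit false
set_option linter.unusedSectionVars false

namespace CfsgLib.O83

open Subgroup CfsgLib.ExtraTwo CfsgLib.LargeExtra

variable {G : Type*} [Group G] {K : Subgroup G} {z n : G} {y : Fin 4 → F3 → G} {P : G → W}

variable {v : G}

theorem K0.exists_opp (hK : K0 K z y n) (h : CF z y P) :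
    ∃ v, IsConj z v ∧ Op0 z P v ∧ P v = mk0 1 1 := by
  obtain ⟨a, -, a2, a3, a4, a5⟩ := hK.nE 1 1 (by decide +kernel)
  obtain ⟨j, hj, -⟩ := a5 rfl
  obtain ⟨m, m1, m2⟩ := h.full (-j)
  obtain ⟨q, -, e⟩ := h.toCz.conj_tt a4 hj m1 m2
  have p := h.toCz.eq_of_act a3
  refine ⟨a, isConj_iff.2 ⟨(q * m * n)⁻¹ * n, ?_⟩, ⟨a2, h.fr.act_comm_z a3, by rw [p]; rfl, by rw [p]; rfl⟩, p⟩
  calc _ = (q * m * n)⁻¹ * (n * z * n⁻¹) * (q * m * n) := by group
    _ = _ := by rw [hK.nz, ← e]; group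

theorem cbf_five : ∀ a b c d : F3, Function.Injective
    ![0, ev 0 a + ev 1 b, ev 0 a + ev 2 c, ev 0 a + ev 3 d, ev 0 a + ev 1 b + (ev 0 a + ev 2 c)] := by
  decide +kernel

theorem cbf_three : ∀ j k ε : F3, ε ≠ 0 → k = j ∨ k = j + ε ∨ k = j + ε + ε := by decide

namespace CB

variable [Finite G] (h : CB z y P) (hc : IsConj z v) (hv : Op0 z P v)
include h hc hv

theorem opp : Opp z P z v := h.toCz.opp_iff.2 ⟨hc, hv⟩

theorem blkM : ∃ a n : Fin 4 → G, Blk z v a n ∧ (∀ i, Rt z P i (a i)) ∧ (∀ i, ∃ j, n i = y i j ∨ n i = (y i j)⁻¹) ∧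
    ∀ i, a i ∈ MM (IsRt z P) z v ∧ n i ∈ MM (IsRt z P) z v := by
  obtain ⟨a, n, b, r, e, -⟩ := hv.blk0 h.toCF
  exact ⟨a, n, b, r, e, fun i =>
    h.sys.sp_mem (h.opp hc hv) (h.sys.sp_blk b (fun i => h.toCz.isRt_iff.2 ⟨i, r i⟩) i)⟩

theorem Q_le : QQ y ≤ MM (IsRt z P) z v := by
  obtain ⟨a, n, b, r, e, m⟩ := h.blkM hc hv
  have hz : z ∈ MM (IsRt z P) z v := by
    have := mul_mem (m 0).2 (m 0).2
    rwa [b.nn] at this
  refine QQ_le fun i k => ?_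
  obtain ⟨j, hj⟩ := e i
  have h0 : y i j ∈ MM (IsRt z P) z v := by
    rcases hj with hj | hj
    exacts [hj ▸ (m i).2, inv_mem_iff.1 (hj ▸ (m i).2)]
  obtain ⟨ε, e0, e1⟩ : ∃ ε : F3, ε ≠ 0 ∧ P (a i) = tr (Pi.single i ε) := by
    rcases (r i).2.2 with e | e
    exacts [⟨1, by decide, e⟩, ⟨-1, by decide, e⟩]
  have st : ∀ l, y i l ∈ MM (IsRt z P) z v → y i (l + ε) ∈ MM (IsRt z P) z v := fun l hl => by
    have k1 := mul_mem (mul_mem (m i).1 hl) (inv_mem (m i).1)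
    have k2 := h.act _ (r i).1 i l
    simp only [e1, W.j, tr_s, tr_e, tr_x, sg_zero, one_mul, Pi.single_eq_same, Equiv.Perm.one_apply] at k2
    rcases k2 with k2 | k2 <;> rw [k2] at k1
    exacts [k1, (mul_mem_cancel_right hz).1 k1]
  rcases cbf_three j k ε e0 with rfl | rfl | rfl
  exacts [h0, st _ h0, st _ (st _ h0)]

theorem tr_mem (a : Fin 4 → F3) : ∃ d ∈ MM (IsRt z P) z v, d * z = z * d ∧ P d = tr a := by
  obtain ⟨b, n, -, r, -, m⟩ := h.blkM hc hv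
  have h0 : ∃ d ∈ MM (IsRt z P) z v, d * z = z * d ∧ P d = tr 0 := ⟨1, one_mem _, by simp, h.toCz.P_one⟩
  refine Pi.single_induction (fun a => ∃ d ∈ MM (IsRt z P) z v, d * z = z * d ∧ P d = tr a) a h0 ?_ fun i c => ?_
  · rintro f g ⟨d, d1, d2, d3⟩ ⟨e, e1, e2, e3⟩
    exact ⟨d * e, mul_mem d1 e1, Commute.mul_left d2 e2, by rw [h.toCz.P_mul d2 e2, d3, e3, tr_add]⟩
  have k : ∀ c : F3, P (b i) = tr (Pi.single i c) → ∃ d ∈ MM (IsRt z P) z v, d * z = z * d ∧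
      P d = tr (Pi.single i (-c)) := fun c e =>
    ⟨(b i)⁻¹, inv_mem (m i).1, Commute.inv_left (r i).1, by rw [h.toCz.P_inv (r i).1, e, Pi.single_neg, tr_neg]⟩
  rcases f3_cases c with rfl | rfl | rfl
  · rwa [Pi.single_zero]
  · rcases (r i).2.2 with e | e
    exacts [⟨_, (m i).1, (r i).1, e⟩, k _ e]
  · rcases (r i).2.2 with e | e
    exacts [k _ e, ⟨_, (m i).1, (r i).1, e⟩]

theorem invol (e : P v = mk0 1 1) {x : G} (hx : x ∈ QQ y) (h2 : v * x * (v * x) = 1) :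
    ∃ p ∈ QQ y, p * (v * x) * p⁻¹ = v ∨ p * (v * x) * p⁻¹ = z * v := by
  rw [← hv.2.1]
  exact h.fr.invol_coset (fun u hu => free_mk0 (s := 1) (c := 1) (by decide +kernel) (by decide +kernel) hu)
    (e ▸ h.act v hv.2.1) hv.1 hx h2

theorem norm (e : P v = mk0 1 1) {m : G} (hm : m * z = z * m) : m ∈ normalizer (MM (IsRt z P) z v : Set G) := by
  have hv' := hv.conj h.toCz hm
  obtain ⟨d, d1, d2, d3⟩ := h.tr_mem hc hv (P (m * v * m⁻¹)).x
  have h2 := hv'.conj h.toCz d2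
  have e' : P v = P (d * (m * v * m⁻¹) * d⁻¹) := by
    rw [h.toCz.P_conj d2 hv'.2.1, d3, e, ← tr_neg]
    ext i
    · simp [hv'.2.2.1]
    · simp [hv'.e_eq h.toCz]
    · simp only [mk0_x, W.mul_x, W.mul_e, tr_s, tr_e, tr_x, hv'.2.2.1, hv'.e_eq h.toCz, Equiv.Perm.one_apply,
        zero_add, sg_zero, sg_one, Pi.neg_apply]
      generalize (P (m * v * m⁻¹)).x i = t
      revert t; decide
  obtain ⟨p, p1, p2⟩ := h.invol hc hv e (h.toCz.mem_of_eq hv.2.1 h2.2.1 e')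
    (by rw [mul_inv_cancel_left]; exact h2.1)
  rw [mul_inv_cancel_left] at p2
  have k := h.sys.MM_norm (h.opp hc hv) (g := p * d * m)
    (mul_inv_eq_iff_eq_mul.2 (Commute.mul_left (Commute.mul_left (h.fr.Q_comm_z p1) d2) hm))
    (by simpa only [mul_assoc, mul_inv_rev] using p2)
  exact (mul_mem_cancel_left (le_normalizer (mul_mem (h.Q_le hc hv p1) d1))).1 k

theorem iso : Nonempty (MM (IsRt z P) z v ≃* PO3) := by
  refine h.sys.iso (h.opp hc hv) fun g _ hg => (h.cent g fun q hq => (hg q (h.Q_le hc hv hq)).symm).resolve_right ?_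
  rintro rfl
  obtain ⟨k, k1, k2⟩ := h.sys.conj_MM (h.opp hc hv)
  rw [← hg k k1, mul_inv_cancel_right] at k2
  exact hv.not_mem h.toCz (k2 ▸ h.fr.z_mem)

/-- conjugates of `z` in `Q` other than `z` are conjugate to `tt y` in `M` -/
theorem conj_tt {x : G} (hx : x ∈ QQ y) (hz : IsConj z x) (hne : x ≠ z) :
    ∃ k ∈ MM (IsRt z P) z v, k * x * k⁻¹ = tt y := by
  obtain ⟨j, hj⟩ := (h.toCz.full_of_conj hx hz).resolve_left hne
  obtain ⟨d, d1, d2, d3⟩ := h.tr_mem hc hv (-j)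
  obtain ⟨q, q1, q2⟩ := h.toCz.conj_tt hx hj d2 d3
  exact ⟨_, mul_mem (h.Q_le hc hv q1) d1, q2⟩

theorem card_R : 10 ≤ Nat.card (QQ y ⊓ centralizer {v} : Subgroup G) := by
  obtain ⟨a, n, b, -, e, -⟩ := h.blkM hc hv
  choose j hj using e
  have nQ : ∀ i, n i ∈ QQ y ∧ pi z y (n i) = ev i (j i) := fun i => by
    rcases hj i with e | e <;> rw [e]
    exacts [⟨y_mem _ _ _, h.fr.pi_y _ _⟩, ⟨inv_mem (y_mem _ _ _), by rw [h.fr.pi_inv (y_mem _ _ _), h.fr.pi_y]⟩]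
  have m : ∀ i, n 0 * n i ∈ QQ y ⊓ centralizer {v} := fun i => by
    refine ⟨mul_mem (nQ 0).1 (nQ i).1, mem_centralizer_singleton_iff.2 (mul_inv_eq_iff_eq_mul.1 ?_).symm⟩
    rw [← conj_mul, b.vn, b.vn, ← mul_inv_rev, b.nc i 0, inv_eq_iff_mul_eq_one,
      Commute.mul_mul_mul_comm (b.nc i 0), b.nn, b.nn, h.fr.zz]
  have p : ∀ i, pi z y (n 0 * n i) = ev 0 (j 0) + ev i (j i) := fun i => by
    rw [h.fr.pi_mul (nQ 0).1 (nQ i).1, (nQ 0).2, (nQ i).2]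
  have hz : ∀ c, zpw z c ∈ QQ y ⊓ centralizer {v} := fun c => by
    rcases zpw_cases z c with e | e <;> rw [e]
    exacts [one_mem _, b.nn 0 ▸ m 0]
  obtain ⟨x, x1, x2⟩ : ∃ x : Fin 5 → G, (∀ k, x k ∈ QQ y ⊓ centralizer {v}) ∧
      Function.Injective fun k => pi z y (x k) := by
    refine ⟨![1, n 0 * n 1, n 0 * n 2, n 0 * n 3, n 0 * n 1 * (n 0 * n 2)], fun k => ?_, ?_⟩
    · fin_cases k
      exacts [one_mem _, m 1, m 2, m 3, mul_mem (m 1) (m 2)]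
    · convert cbf_five (j 0) (j 1) (j 2) (j 3) using 2 with k
      fin_cases k
      exacts [h.fr.pi_one, p 1, p 2, p 3, by rw [← p 1, ← p 2]; exact h.fr.pi_mul (m 1).1 (m 2).1]
  have px : ∀ k c, pi z y (x k * zpw z c) = pi z y (x k) := fun k c => by
    rcases zpw_cases z c with e | e <;> rw [e]
    exacts [by rw [mul_one], h.fr.pi_mul_z (x1 k).1]
  have := Nat.card_le_card_of_injective
    (fun t : Fin 5 × F2 => (⟨x t.1 * zpw z t.2, mul_mem (x1 _) (hz _)⟩ : (QQ y ⊓ centralizer {v} : Subgroup G)))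
    (by
      rintro ⟨k, c⟩ ⟨k', c'⟩ e
      have e := congrArg Subtype.val e
      obtain rfl : k = k' := x2 ((px k c).symm.trans ((congrArg _ e).trans (px k' c')))
      exact congrArg _ (h.fr.zpw_inj (mul_left_cancel e)))
  simpa using this

theorem conj_z_tt (e : P v = mk0 1 1) : ∃ k ∈ MM (IsRt z P) z v, k * z * k⁻¹ = tt y := by
  obtain ⟨g, g1, g2⟩ := h.sys.conj_MM (h.opp hc hv)
  have k := h.toCe.two_le (R := (QQ y ⊓ centralizer {v}).map (MulAut.conj g⁻¹).toMonoidHom)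
    ((h.fr.es.isPGroup.to_le inf_le_left).map _) (by
      rintro _ ⟨x, hx, rfl⟩
      have := mem_centralizer_singleton_iff.1 hx.2
      rw [← g2] at this
      calc _ = g⁻¹ * (x * (g * z * g⁻¹)) * g := by simp [mul_assoc]
        _ = _ := by rw [this]; simp [mul_assoc])
  rw [card_map_of_injective (MulAut.conj g⁻¹).injective] at k
  have k' := h.card_R hc hv
  obtain ⟨⟨_, ⟨x, hx, rfl⟩, x1⟩, x2⟩ := (ne_bot_iff_exists_ne_one (H := (QQ y ⊓ centralizer {v}).map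
      (MulAut.conj g⁻¹).toMonoidHom ⊓ QQ y)).1 fun e => by
    rw [e, card_bot] at k
    omega
  replace x1 : g⁻¹ * x * g ∈ QQ y := by simpa using x1
  replace x2 : g⁻¹ * x * g ≠ 1 := fun e => x2 (Subtype.ext (by simpa using e))
  have xv := mem_centralizer_singleton_iff.1 hx.2
  have nv := hv.not_mem h.toCz
  have x3 : g⁻¹ * x * g ≠ z := fun e => nv (by rw [← g2, ← e]; simpa [mul_assoc] using hx.1)
  have x4 : x ≠ z := fun e => (hv.symm h g2).not_mem h.toCz (e ▸ x1)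
  have x5 : x * x = 1 := by
    rcases h.fr.es.sq x1 with e | e
    · calc _ = g * (g⁻¹ * x * g * (g⁻¹ * x * g)) * g⁻¹ := by group
        _ = _ := by rw [e]; group
    · exact absurd (by rw [← g2, ← e]; simpa [mul_assoc] using mul_mem hx.1 hx.1) nv
  obtain ⟨q, q1, q2⟩ := h.fr.es.exists_conj x1 x2 x3
  obtain ⟨p, p1, p2⟩ := h.invol hc hv e hx.1 (by rw [Commute.mul_mul_mul_comm xv, hv.1, x5, one_mul])
  obtain ⟨s, s1, s2⟩ := hv.conj_z h.toCz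
  have QM := h.Q_le hc hv
  have q3 : g * q * g⁻¹ * x * (g * q * g⁻¹)⁻¹ = v * x := by
    calc _ = g * (q * (g⁻¹ * x * g) * q⁻¹) * g⁻¹ := by group
      _ = _ := by rw [q2, ← xv, ← g2]; group
  obtain ⟨l, l1, l2⟩ : ∃ l ∈ MM (IsRt z P) z v, l * z * l⁻¹ = x := by
    have t : ∀ r ∈ QQ y, r * (v * x) * r⁻¹ = v → ∃ l ∈ MM (IsRt z P) z v, l * z * l⁻¹ = x := fun r r1 r2 => by
      refine ⟨(r * (g * q * g⁻¹))⁻¹ * g,
        mul_mem (inv_mem (mul_mem (QM r1) (mul_mem (mul_mem g1 (QM q1)) (inv_mem g1)))) g1, ?_⟩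
      calc _ = (r * (g * q * g⁻¹))⁻¹ * (g * z * g⁻¹) * (r * (g * q * g⁻¹)) := by group
        _ = _ := by rw [g2, ← r2, ← q3]; group
    rcases p2 with p2 | p2
    · exact t p p1 p2
    · refine t (s⁻¹ * p) (mul_mem (inv_mem s1) p1) ?_
      calc _ = s⁻¹ * (p * (v * x) * p⁻¹) * s := by group
        _ = _ := by rw [p2, ← s2]; group
  obtain ⟨k, k1, k2⟩ := h.conj_tt hc hv hx.1 (isConj_iff.2 ⟨l, l2⟩) x4
  exact ⟨k * l, mul_mem k1 l1, by rw [← k2, ← l2]; group⟩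

theorem K_le (e : P v = mk0 1 1) (hK : KS K z y n) : K ≤ MM (IsRt z P) z v := by
  obtain ⟨k, k1, k2⟩ := h.conj_z_tt hc hv e
  have hn : k⁻¹ * n * z = z * (k⁻¹ * n) := by
    calc _ = k⁻¹ * (n * z * n⁻¹) * n := by group
      _ = _ := by rw [hK.nz, ← k2]; group
  have hN : K ≤ normalizer (MM (IsRt z P) z v : Set G) := hK.gen _ (fun m _ hm => h.norm hc hv e hm)
    ((mul_mem_cancel_left (inv_mem (le_normalizer k1))).1 (h.norm hc hv e hn))
  have := hK.simple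
  have nm : ((MM (IsRt z P) z v).subgroupOf K).Normal :=
    ⟨fun x hx g => (mem_normalizer_iff.1 (hN g.2) x).1 hx⟩
  refine subgroupOf_eq_top.1 ((IsSimpleGroup.eq_bot_or_eq_top_of_normal _ nm).resolve_left fun b => h.fr.z1 ?_)
  have : (⟨z, hK.toK0.z_mem⟩ : K) ∈ (MM (IsRt z P) z v).subgroupOf K := h.Q_le hc hv h.fr.z_mem
  rw [b] at this
  exact congrArg Subtype.val (mem_bot.1 this)

theorem fus (e : P v = mk0 1 1) (hK : KS K z y n) {g : G}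
    (hg : g * z * g⁻¹ ∈ normalizer (MM (IsRt z P) z v : Set G)) :
    ∃ k ∈ MM (IsRt z P) z v, k * z * k⁻¹ = g * z * g⁻¹ := by
  have KM := h.K_le hc hv e hK
  have i1 := h.toCe.index_odd (K := K) (by rw [hK.card]; norm_num)
  have c2 : ∀ {g x : G}, x * x = 1 → g * x * g⁻¹ * (g * x * g⁻¹) = 1 := fun e => by
    rw [conj_mul, e, mul_one, mul_inv_cancel]
  have x2 := c2 (g := g) h.fr.zz
  obtain ⟨l, l1, l2⟩ := conj_into_of_index_odd i1 KM x2
    (mem_of_index_odd (fun d => i1 (d.trans (index_dvd_of_le KM))) x2 hg)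
  obtain ⟨k, k1, k2⟩ := hK.toK0.into l2 (c2 x2)
  have t : ∀ s ∈ MM (IsRt z P) z v, s * z * s⁻¹ = k * (l * (g * z * g⁻¹) * l⁻¹) * k⁻¹ →
      ∃ k ∈ MM (IsRt z P) z v, k * z * k⁻¹ = g * z * g⁻¹ := fun s s1 s2 => by
    refine ⟨(k * l)⁻¹ * s, mul_mem (inv_mem (mul_mem (KM k1) l1)) s1, ?_⟩
    calc _ = (k * l)⁻¹ * (s * z * s⁻¹) * (k * l) := by group
      _ = _ := by rw [s2]; group
  by_cases x3 : k * (l * (g * z * g⁻¹) * l⁻¹) * k⁻¹ = z
  · exact t 1 (one_mem _) (by rw [x3]; group)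
  obtain ⟨s, s1, s2⟩ := h.conj_tt hc hv k2 (isConj_iff.2 ⟨k * l * g, by group⟩) x3
  obtain ⟨s', s1', s2'⟩ := h.conj_z_tt hc hv e
  refine t (s⁻¹ * s') (mul_mem (inv_mem s1) s1') ?_
  calc _ = s⁻¹ * (s' * z * s'⁻¹) * s := by group
    _ = _ := by rw [s2', ← s2]; group

end CB

end CfsgLib.O83
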