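import Cfsg.Agent.Lib.O83.Tri
import Cfsg.Agent.Lib.O8R.Recog
import Cfsg.Agent.S0293
import Cfsg.Agent.S0296

/-! Package CT3: Curtis–Tits recognition of `PΩ₈⁺(3)`.  See `plans/O83.md`. -/

set_option autoImplicit false
set_option linter.unusedSectionVars false

namespace CfsgLib.O83

open Subgroup CfsgLib.ExtraTwo CfsgLib.LargeExtra

open CfsgLib.RGD CfsgLib.ClSys CfsgLib.CT

variable {G : Type*} [Group G]

/-- the one parameter subgroup of an element of order three -/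
def op3 (y : G) (t : ZMod 3) : G := y ^ t.val

/-- `v` is the commutator of `x`, `y` and commutes with both -/
def T3 (x y v : G) : Prop := x * y * x⁻¹ * y⁻¹ = v ∧ Commute x v ∧ Commute y v

theorem T3.conj {x y v : G} (h : T3 x y v) (g : G) : T3 (g * x * g⁻¹) (g * y * g⁻¹) (g * v * g⁻¹) :=
  ⟨by rw [← h.1]; group, h.2.1.conj g, h.2.2.conj g⟩

theorem T3.inv_left {x y v : G} (h : T3 x⁻¹ y v⁻¹) : T3 x y v := by
  have c : Commute x v := by simpa using h.2.1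
  refine ⟨?_, c, by simpa using h.2.2⟩
  calc _ = x * (x⁻¹ * y * x⁻¹⁻¹ * y⁻¹)⁻¹ * x⁻¹ := by group
    _ = v := by rw [h.1, inv_inv, c.eq, mul_inv_cancel_right]

theorem T3.inv_right {x y v : G} (h : T3 x y⁻¹ v⁻¹) : T3 x y v := by
  have c : Commute y v := by simpa using h.2.2
  refine ⟨?_, by simpa using h.2.1, c⟩
  calc _ = y * (x * y⁻¹ * x⁻¹ * y⁻¹⁻¹)⁻¹ * y⁻¹ := by group
    _ = v := by rw [h.1, inv_inv, c.eq, mul_inv_cancel_right]

theorem T3.inv_inv {x y v : G} (h : T3 x⁻¹ y⁻¹ v) : T3 x y v :=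
  T3.inv_left (T3.inv_right (by rwa [_root_.inv_inv]))

theorem T3.pow {x y v : G} (h : T3 x y v) (s t : ℕ) : x ^ s * y ^ t * (x ^ s)⁻¹ * (y ^ t)⁻¹ = v ^ (s * t) := by
  have e : x * y ^ t * x⁻¹ = v ^ t * y ^ t := by
    rw [← conj_pow, ← h.2.2.symm.mul_pow, ← h.1, inv_mul_cancel_right]
  rw [mul_inv_eq_iff_eq_mul]
  induction s with
  | zero => simp
  | succ s ih =>
    rw [pow_succ', mul_inv_rev, show x * x ^ s * y ^ t * ((x ^ s)⁻¹ * x⁻¹) = x * (x ^ s * y ^ t * (x ^ s)⁻¹) * x⁻¹ by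
      group, ih, ← conj_mul, e, (h.2.1.pow_right _).eq, mul_inv_cancel_right, add_mul, one_mul, pow_add, mul_assoc]

theorem op3_one (y : G) : op3 y 1 = y := pow_one y

theorem op3_commute {x y : G} (h : Commute x y) (t u : ZMod 3) : Commute (op3 x t) (op3 y u) := h.pow_pow _ _

theorem A2.relA {a n c m : G} (h : A2 a n c m) : ∃ x : OffD 3 → ZMod 3 → G, RelA x ∧ x (o3 0 1) = op3 a ∧
    x (o3 1 0) = op3 (n * a⁻¹ * n⁻¹) ∧ x (o3 1 2) = op3 c ∧ x (o3 2 1) = op3 (m * c⁻¹ * m⁻¹) := by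
  have c3 : ∀ {x : G}, x ^ 3 = 1 → ∀ g : G, (g * x * g⁻¹) ^ 3 = 1 := fun hx g => by rw [conj_pow, hx]; group
  have i3 : ∀ {x : G}, x ^ 3 = 1 → x⁻¹ ^ 3 = 1 := fun hx => by rw [inv_pow, hx, inv_one]
  have na : n * (n * a⁻¹ * n⁻¹) * n⁻¹ = a⁻¹ := by
    calc _ = (n * n * a * (n * n)⁻¹)⁻¹ := by simp only [mul_inv_rev, inv_inv, mul_assoc]
      _ = _ := by rw [h.na, mul_inv_cancel_right]
  have nw : n * (n * c * n⁻¹) * n⁻¹ = c⁻¹ := by rw [← h.nc]; group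
  have mc : m * (m * c⁻¹ * m⁻¹) * m⁻¹ = c⁻¹ := by
    calc _ = (m * m * c * (m * m)⁻¹)⁻¹ := by simp only [mul_inv_rev, inv_inv, mul_assoc]
      _ = _ := by rw [h.mc, mul_inv_cancel_right]
  have nw' : n * (n * (m * c⁻¹ * m⁻¹) * n⁻¹) * n⁻¹ = (m * c⁻¹ * m⁻¹)⁻¹ := by
    calc _ = n * n * m * (n * n)⁻¹ * (n * n * c * (n * n)⁻¹)⁻¹ * (n * n * m * (n * n)⁻¹)⁻¹ := by group
      _ = m⁻¹ * (m * (m * c⁻¹ * m⁻¹) * m⁻¹)⁻¹ * m := by rw [h.nm, h.nc, mc]; group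
      _ = _ := by group
  have mw : m * (n * c * n⁻¹) * m⁻¹ = a := by
    calc _ = (m * (n * c * n⁻¹)⁻¹ * m⁻¹)⁻¹ := by group
      _ = (m * m * a * (m * m)⁻¹)⁻¹ := by rw [← h.mw]; group
      _ = _ := by rw [h.ma, inv_inv]
  have mb : m * (n * a⁻¹ * n⁻¹) * m⁻¹ = (n * (m * c⁻¹ * m⁻¹) * n⁻¹)⁻¹ := by
    calc _ = n⁻¹ * (n * m * n) * a⁻¹ * (n * m * n)⁻¹ * n := by group
      _ = n⁻¹ * m * (n * (m * a * m⁻¹)⁻¹ * n⁻¹) * m⁻¹ * n := by rw [h.br]; group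
      _ = n⁻¹ * (m * c⁻¹ * m⁻¹)⁻¹⁻¹ * n := by rw [h.mw, inv_inv, nw]; group
      _ = _ := by rw [← nw']; group
  have t1 : T3 a c (n * c * n⁻¹) := ⟨h.ac, h.aw, h.cw⟩
  have t2 : T3 (n * a⁻¹ * n⁻¹) (n * c * n⁻¹) c := T3.inv_left (by
    have := t1.conj n
    rwa [nw, show n * a * n⁻¹ = (n * a⁻¹ * n⁻¹)⁻¹ by group] at this)
  have t3 : T3 (n * c * n⁻¹) (m * c⁻¹ * m⁻¹) a := T3.inv_inv (by
    have := t1.conj m
    rwa [mw, h.mw, show m * c * m⁻¹ = (m * c⁻¹ * m⁻¹)⁻¹ by group] at this)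
  have t4 : T3 c (n * (m * c⁻¹ * m⁻¹) * n⁻¹) (n * a⁻¹ * n⁻¹) := T3.inv_left (by
    have := t3.conj n
    rwa [nw, show n * a * n⁻¹ = (n * a⁻¹ * n⁻¹)⁻¹ by group] at this)
  have t5 : T3 (n * (m * c⁻¹ * m⁻¹) * n⁻¹) a (m * c⁻¹ * m⁻¹) := T3.inv_left (by
    have := t2.conj m
    rwa [mw, mb, show m * c * m⁻¹ = (m * c⁻¹ * m⁻¹)⁻¹ by group] at this)
  have t6 : T3 (m * c⁻¹ * m⁻¹) (n * a⁻¹ * n⁻¹) (n * (m * c⁻¹ * m⁻¹) * n⁻¹) := T3.inv_inv (by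
    have := t5.conj n
    rwa [nw', show n * a * n⁻¹ = (n * a⁻¹ * n⁻¹)⁻¹ by group] at this)
  let y : Fin 3 → Fin 3 → G := ![![1, a, n * c * n⁻¹], ![n * a⁻¹ * n⁻¹, 1, c],
    ![n * (m * c⁻¹ * m⁻¹) * n⁻¹, m * c⁻¹ * m⁻¹, 1]]
  have k : ∀ i j k, i ≠ j → i ≠ k → j ≠ k → T3 (y i j) (y j k) (y i k) := by
    intro i j k
    fin_cases i <;> fin_cases j <;> fin_cases k <;> simp [y, t1, t2, t3, t4, t5, t6]
  have y3 : ∀ i j, y i j ^ 3 = 1 := by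
    intro i j
    fin_cases i <;> fin_cases j
    exacts [one_pow _, h.a3, c3 h.c3 _, c3 (i3 h.a3) _, one_pow _, h.c3, c3 (c3 (i3 h.c3) _) _, c3 (i3 h.c3) _,
      one_pow _]
  have third : ∀ i j : Fin 3, i ≠ j → ∃ k, i ≠ k ∧ j ≠ k := by decide
  refine ⟨fun r => op3 (y r.1.1 r.1.2), ⟨?_, ?_, ?_⟩, rfl, rfl, rfl, rfl⟩
  · rintro ⟨⟨i, j⟩, hij⟩ t v
    simp only [op3]
    rw [ZMod.val_add, ← pow_eq_pow_mod _ (y3 i j), pow_add]
  · rintro ⟨⟨i, j⟩, hij⟩ ⟨⟨i', j'⟩, hij'⟩ t v e1 e2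
    obtain ⟨l, h1, h2⟩ := third i j hij
    have : ∀ i j l i' j' : Fin 3, i ≠ j → i ≠ l → j ≠ l → i' ≠ j' → i ≠ j' → j ≠ i' →
        (i' = i ∧ j' = j) ∨ (i' = i ∧ j' = l) ∨ (i' = l ∧ j' = j) := by decide
    refine (op3_commute ?_ t v).commutator_eq
    dsimp only
    rcases this i j l i' j' hij h1 h2 hij' e1 e2 with ⟨rfl, rfl⟩ | ⟨rfl, rfl⟩ | ⟨rfl, rfl⟩
    · exact Commute.refl _
    · exact (k _ _ _ hij h1 h2).2.1
    · exact (k _ _ _ h1.symm h2.symm hij).2.2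
  · rintro ⟨⟨i, j⟩, hij⟩ ⟨⟨i', j'⟩, hij'⟩ h t v e
    dsimp only at e h ⊢
    subst e
    simp only [op3]
    rw [ZMod.val_mul, ← pow_eq_pow_mod _ (y3 i j'), (k i j j' hij h hij').pow]

theorem simple_PO3 : IsSimpleGroup PO3 := by
  exact Cfsg.Agent.S0296.result (F := ZMod 3) 4 le_rfl

theorem card_PO3 : Nat.card PO3 = 4952179814400 := by
  have := Cfsg.Agent.S0293.result (F := ZMod 3) (q := 3) (ZMod.card 3) 4 le_rfl
  simp only [Finset.prod_range_succ, Finset.prod_range_zero] at this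
  norm_num at this
  change Nat.card (Cfsg.POmega (ZMod 3) (Cfsg.quadFormPlus 4 (ZMod 3))) = _
  omega

theorem recog3_top (hZ : center G = ⊥) [Nontrivial G] (a n : Fin 3 → G) (c m : G) (hA : ∀ i, A2 (a i) (n i) c m)
    (h5 : ∀ i j, i ≠ j → Commute (a i) (a j) ∧ Commute (a i) (n j) ∧ Commute (n i) (n j))
    (hgen : ∀ K : Subgroup G, (∀ i, a i ∈ K ∧ n i * (a i)⁻¹ * (n i)⁻¹ ∈ K) → c ∈ K → m * c⁻¹ * m⁻¹ ∈ K → K = ⊤) :
    Nonempty (G ≃* PO3) := by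
  have h24 : 2 ≤ 4 := by norm_num
  let S₀ := omegaPlusSys (F := ZMod 3) h24 (by norm_num)
  have hS₀ : S₀.Nondeg := omegaPlusSys_nondeg _ _
  have htop : S₀.grp = ⊤ := omegaPlusSys_grp _ _
  let Φ := rootD h24
  let A : Fin 4 → G := ![a 0, c, a 1, a 2]
  let B : Fin 4 → G := ![n 0 * (a 0)⁻¹ * (n 0)⁻¹, m * c⁻¹ * m⁻¹, n 1 * (a 1)⁻¹ * (n 1)⁻¹, n 2 * (a 2)⁻¹ * (n 2)⁻¹]
  have hA' : ∀ i, A (O8R.outer i) = a i ∧ B (O8R.outer i) = n i * (a i)⁻¹ * (n i)⁻¹ := by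
    intro i; fin_cases i <;> exact ⟨rfl, rfl⟩
  have hL : ∀ i, LocP S₀ (MonoidHom.snd G _) (fun k t => (op3 (A k) t, S₀.x (Φ.simple k) t))
      (fun k t => (op3 (B k) t, S₀.x (Φ.neg (Φ.simple k)) t)) {O8R.outer i, 1} := by
    intro i
    obtain ⟨x, hx, e1, e2, e3, e4⟩ := (hA i).relA
    obtain ⟨hne, k1, k2⟩ := (O8R.cartan h24).1 i
    obtain ⟨y, hy, d1, d2, d3, d4⟩ := exists_relA_of_bond hS₀ hne k1 k2
    exact locP_of_relA hS₀ hne k1 k2 (fun _ _ => rfl) (fun _ _ => rfl) (relA_prod hx hy)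
      (by rw [e1, d1, (hA' i).1]) (by rw [e2, d2, (hA' i).2]) (by rw [e3, d3]; rfl) (by rw [e4, d4]; rfl)
  have hout : ∀ k : Fin 4, k = 1 ∨ ∃ i, k = O8R.outer i := by decide
  obtain ⟨S, hS, hS'⟩ := exists_stSys_of_pairs hS₀ (θ := MonoidHom.snd G _)
    (a := fun k t => (op3 (A k) t, S₀.x (Φ.simple k) t))
    (b := fun k t => (op3 (B k) t, S₀.x (Φ.neg (Φ.simple k)) t)) (fun k => by
      rcases hout k with rfl | ⟨i, rfl⟩
      · exact (hL 0).mono (by simp)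
      · exact (hL i).mono (by simp))
    (fun k l hkl h => by
      rcases hout k with rfl | ⟨i, rfl⟩ <;> rcases hout l with rfl | ⟨j, rfl⟩
      · exact absurd rfl hkl
      · exact Set.pair_comm _ _ ▸ hL j
      · exact hL i
      · exact absurd ((O8R.cartan h24).2 i j hkl) h)
    fun k l hkl h t v => by
      have hi : Φ.InSub {k} (Φ.simple k) := Φ.inSub_simple_iff.2 rfl
      have hj : Φ.InSub {l} (Φ.simple l) := Φ.inSub_simple_iff.2 rfl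
      have hi' := Φ.inSub_neg_iff.2 hi
      have hj' := Φ.inSub_neg_iff.2 hj
      have : (Commute (A k) (A l) ∧ Commute (A k) (B l)) ∧ Commute (B k) (A l) ∧ Commute (B k) (B l) := by
        rcases hout k with rfl | ⟨i, rfl⟩ <;> rcases hout l with rfl | ⟨j, rfl⟩
        · exact absurd rfl hkl
        · exact absurd h (by rw [((O8R.cartan h24).1 j).2.2]; decide)
        · exact absurd h (by rw [((O8R.cartan h24).1 i).2.1]; decide)
        · have hij : i ≠ j := fun e => hkl (by rw [e])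
          obtain ⟨c1, c2, c3⟩ := h5 i j hij
          have c4 := (h5 j i hij.symm).2.1.symm
          rw [(hA' i).1, (hA' i).2, (hA' j).1, (hA' j).2]
          have d1 := (c2.mul_right c1.inv_right).mul_right c2.inv_right
          have d2 := (c3.mul_right c4.inv_right).mul_right c3.inv_right
          exact ⟨⟨c1, d1⟩, (c4.mul_left c1.inv_left).mul_left c4.inv_left,
            (d2.mul_left d1.inv_left).mul_left d2.inv_left⟩
      exact ⟨⟨Prod.ext (op3_commute this.1.1 t v) (commute_of_orth S₀ hkl h hi hj t v),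
        Prod.ext (op3_commute this.1.2 t v) (commute_of_orth S₀ hkl h hi hj' t v)⟩,
        Prod.ext (op3_commute this.2.1 t v) (commute_of_orth S₀ hkl h hi' hj t v),
        Prod.ext (op3_commute this.2.2 t v) (commute_of_orth S₀ hkl h hi' hj' t v)⟩
  obtain ⟨φ, hφ, -⟩ := exists_hom_quot_center hS₀ htop hS fun K hK => by
    have k1 : ∀ k, A k ∈ K ∧ B k ∈ K := fun k => by
      have := hK k 1
      rw [(hS' k).1, (hS' k).2] at this
      simpa only [op3_one] using this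
    exact hgen K (fun i => by rw [← (hA' i).2]; rw [← (hA' i).1]; exact k1 _) (k1 1).1 (k1 1).2
  have := simple_PO3
  let ψ : PO3 →* G := ((QuotientGroup.quotientBot (G := G)).toMonoidHom.comp
    (QuotientGroup.quotientMulEquivOfEq hZ).toMonoidHom).comp φ
  have hψ : Function.Surjective ψ := (QuotientGroup.quotientBot.surjective.comp
    (QuotientGroup.quotientMulEquivOfEq hZ).surjective).comp hφ
  refine ⟨(MulEquiv.ofBijective ψ ⟨?_, hψ⟩).symm⟩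
  rw [← MonoidHom.ker_eq_bot_iff]
  refine (IsSimpleGroup.eq_bot_or_eq_top_of_normal _ inferInstance).resolve_right fun h => ?_
  obtain ⟨g0, hg0⟩ := exists_ne (1 : G)
  obtain ⟨g, hg⟩ := hψ g0
  exact hg0 (hg ▸ (h ▸ Subgroup.mem_top g : g ∈ ψ.ker))

theorem recog3 {M : Subgroup G} (hZ : ∀ g ∈ M, (∀ k ∈ M, g * k = k * g) → g = 1) (h1 : M ≠ ⊥) (a n : Fin 3 → G)
    (c m : G) (ha : ∀ i, a i ∈ M ∧ n i ∈ M) (hc : c ∈ M) (hm : m ∈ M) (hA : ∀ i, A2 (a i) (n i) c m)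
    (h5 : ∀ i j, i ≠ j → Commute (a i) (a j) ∧ Commute (a i) (n j) ∧ Commute (n i) (n j))
    (hgen : ∀ K : Subgroup G, (∀ i, a i ∈ K ∧ n i * (a i)⁻¹ * (n i)⁻¹ ∈ K) → c ∈ K → m * c⁻¹ * m⁻¹ ∈ K → M ≤ K) :
    Nonempty (M ≃* PO3) := by
  have := (nontrivial_iff_ne_bot M).2 h1
  refine recog3_top (G := M) (eq_bot_iff.2 fun g hg => Subtype.ext (hZ g g.2 fun k hk =>
      congrArg Subtype.val (mem_center_iff.1 hg ⟨k, hk⟩).symm))
    (fun i => ⟨a i, (ha i).1⟩) (fun i => ⟨n i, (ha i).2⟩) ⟨c, hc⟩ ⟨m, hm⟩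
    (fun i => ⟨Subtype.ext (hA i).a3, Subtype.ext (hA i).c3, Subtype.ext (hA i).na, Subtype.ext (hA i).nc,
      Subtype.ext (hA i).mc, Subtype.ext (hA i).ma, Subtype.ext (hA i).nm, Subtype.ext (hA i).mn,
      Subtype.ext (hA i).br, Subtype.ext (hA i).ac, Subtype.ext (hA i).aw, Subtype.ext (hA i).cw,
      Subtype.ext (hA i).mw⟩)
    (fun i j hij => ⟨Subtype.ext (h5 i j hij).1, Subtype.ext (h5 i j hij).2.1, Subtype.ext (h5 i j hij).2.2⟩)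
    fun K h1 h2 h3 => eq_top_iff.2 fun g _ => ?_
  obtain ⟨k, hk, e⟩ := hgen (K.map M.subtype) (fun i => ⟨mem_map_of_mem _ (h1 i).1, mem_map_of_mem _ (h1 i).2⟩)
    (mem_map_of_mem _ h2) (mem_map_of_mem _ h3) g.2
  exact (Subtype.ext e : k = g) ▸ hk

end CfsgLib.O83
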