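import Cfsg.Agent.Lib.O83.Defs
import Cfsg.Agent.S2902
import Cfsg.Agent.Lib.E62.RExt

/-! Package HW: wrapper of Holt's theorem.  See `plans/O83.md`. -/

set_option autoImplicit false
set_option linter.unusedSectionVars false

namespace CfsgLib.O83

open Subgroup CfsgLib.ExtraTwo CfsgLib.LargeExtra

variable {G : Type*} [Group G] {K : Subgroup G} {z n : G} {y : Fin 4 → F3 → G} {P : G → W}

theorem pre_comap {H : Type*} [Group H] {Q : Subgroup G} (h : Pre Q z) {f : H →* G} (hf : Function.Injective f)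
    {Q' : Subgroup H} {z' : H} (hQ : Q'.map f = Q) (hz : f z' = z) : Pre Q' z' := by
  have hQ' : Q' = Q.comap f := by rw [← hQ, comap_map_eq_self_of_injective hf]
  have hs : ∀ x ∈ Q, ∃ u, f u = x := fun x hx => by
    rw [← hQ] at hx
    obtain ⟨u, -, e⟩ := hx
    exact ⟨u, e⟩
  refine ⟨hQ' ▸ h.es.comap f hf hs hz, fun g hg => ?_, fun g hg x hx => ?_⟩
  · have := h.cent (f g) fun q hq => by
      rw [← hQ] at hq
      obtain ⟨u, hu, rfl⟩ := hq
      rw [← map_mul, ← map_mul, hg u hu]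
    rcases this with e | e
    · exact Or.inl (hf (by rw [e, map_one]))
    · exact Or.inr (hf (by rw [e, hz]))
  · rw [hQ'] at hx ⊢
    rw [mem_comap, map_mul, map_mul, map_inv]
    exact h.norm _ (by rw [← hz, ← map_mul, ← map_mul, hg]) _ hx

theorem hw_card_alt (k : ℕ) :
    Nat.card (alternatingGroup (Fin k)) ≤ 1814400 ∨ 11 ∣ Nat.card (alternatingGroup (Fin k)) := by
  by_cases h2 : k < 2
  · left
    have h1 : Nat.card (alternatingGroup (Fin k)) ≤ Nat.card (Equiv.Perm (Fin k)) :=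
      Nat.card_le_card_of_injective _ Subtype.val_injective
    rw [Nat.card_perm, Nat.card_eq_fintype_card (α := Fin k), Fintype.card_fin] at h1
    have h3 : k.factorial ≤ Nat.factorial 1 := Nat.factorial_le (by omega)
    have h4 : Nat.factorial 1 = 1 := rfl
    omega
  · have : Nontrivial (Fin k) := Fin.nontrivial_iff_two_le.2 (by omega)
    have h1 := two_mul_nat_card_alternatingGroup (α := Fin k)
    rw [Nat.card_perm, Nat.card_eq_fintype_card (α := Fin k), Fintype.card_fin] at h1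
    by_cases h11 : k ≤ 10
    · left
      have h3 : k.factorial ≤ Nat.factorial 10 := Nat.factorial_le h11
      have h4 : Nat.factorial 10 = 3628800 := rfl
      omega
    · right
      have h3 : 11 ∣ k.factorial := Nat.dvd_factorial (by norm_num) (by omega)
      rw [← h1] at h3
      exact (Nat.Coprime.dvd_of_dvd_mul_left (by norm_num) h3)

theorem holt [Finite G] {Q M : Subgroup G} (h : Pre Q z) (hO : Cfsg.pPrimeCore 2 G = ⊥) (hs : IsSimpleGroup M)
    (hQ : Q ≤ M) (h11 : ¬ 11 ∣ Nat.card M) (hbig : 1814400 < Nat.card M)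
    (hC : ∀ m, m * z = z * m → m ∈ normalizer (M : Set G))
    (hf : ∀ g, g * z * g⁻¹ ∈ normalizer (M : Set G) → ∃ k ∈ M, k * z * k⁻¹ = g * z * g⁻¹) :
    Cfsg.generalizedFittingSubgroup G = M := by
  set N : Subgroup G := normalizer (M : Set G) with hN
  have hMN : M ≤ N := le_normalizer
  have hQN : Q ≤ N := hQ.trans hMN
  have hzM : z ∈ M := hQ h.es.mem
  let r : N := ⟨z, hMN hzM⟩
  have hp : Pre (Q.subgroupOf N) r :=
    pre_comap h N.subtype_injective (map_subgroupOf_eq_of_le hQN) rfl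
  have : (M.subgroupOf N).Normal := normal_in_normalizer
  have e : M.subgroupOf N ≃* M := subgroupOfEquivOfLe hMN
  have hs' : IsSimpleGroup (M.subgroupOf N) := e.isSimpleGroup
  have hF : Cfsg.generalizedFittingSubgroup N = M.subgroupOf N :=
    E62.fstar_eq_of_pre hp (subgroupOf_mono N hQ)
  have hc : Nat.card (M.subgroupOf N) = Nat.card M := Nat.card_congr e.toEquiv
  have := Cfsg.Agent.S2902.result hO N (hF ▸ hs') ?_ ?_ r (hF ▸ hzM) ?_ ?_ ?_
  · rw [this, hF, map_subgroupOf_eq_of_le hMN]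
  · rw [hF]
    intro hcm
    obtain ⟨a, ha, b, hb, hab⟩ := h.es.nonab
    have := hcm.is_comm.comm (⟨⟨a, hQN ha⟩, hQ ha⟩ : M.subgroupOf N) ⟨⟨b, hQN hb⟩, hQ hb⟩
    exact hab (congrArg (fun u : M.subgroupOf N => ((u : N) : G)) this)
  · rw [hF]
    rintro k ⟨φ⟩
    have h1 : Nat.card M = Nat.card (alternatingGroup (Fin k)) := hc ▸ Nat.card_congr φ.toEquiv
    rcases hw_card_alt k with h2 | h2
    · omega
    · exact h11 (h1 ▸ h2)
  · obtain ⟨S, hS1, hS2⟩ := hp.exists_sylow
    exact ⟨hp.es.orderOf_eq, S, hS1 hp.es.mem, fun x hx => mem_cent.1 (hS2 hx)⟩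
  · exact fun m hm => hC m (mem_cent.1 hm)
  · intro g hg
    obtain ⟨k, hk, e⟩ := hf g hg
    exact ⟨⟨k, hMN hk⟩, hF ▸ hk, e⟩

end CfsgLib.O83
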