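import Cfsg.Agent.Lib.O83.Mod
import Cfsg.Agent.Lib.O83.Cbf
import Cfsg.Agent.Lib.O83.Nc
import Cfsg.Agent.Lib.O83.Ca
import Cfsg.Agent.Lib.O83.Hw
import Cfsg.Agent.Lib.O83.Xw
import Cfsg.Agent.Lib.O83.Tr
import Cfsg.Agent.Lib.O83.Red
import Cfsg.Agent.Lib.Tech.SylowIn

/-! Package MAIN: assembly.  See `plans/O83.md`. -/

set_option autoImplicit false
set_option linter.unusedSectionVars false

namespace CfsgLib.O83

open Subgroup CfsgLib.ExtraTwo CfsgLib.LargeExtra

variable {G : Type*} [Group G] {K : Subgroup G} {z n : G} {y : Fin 4 → F3 → G} {P : G → W}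

theorem Hyp.core [Finite G] (h : Hyp K z y n) (hG : ∀ M : Subgroup G, M.index ≠ 2) :
    ∃ M : Subgroup G, Cfsg.generalizedFittingSubgroup G = M ∧ QQ y ≤ M ∧ IsSimpleGroup M ∧
      (M = K ∨ Nonempty (M ≃* PO3)) := by
  obtain ⟨P, hz⟩ := h.exists_cz
  have he := hz.ce hG
  have hK := h.toKS.toK0
  have hO := hK.odd_bot h.pre
  rcases he.dich with hA | hF
  · exact ⟨K, holt h.pre hO h.simple hK.Q_le (by rw [h.card]; norm_num) (by rw [h.card]; norm_num)
      (fun m hm => hK.caseA_norm he hA hm) fun g hg => hK.caseA_fus he (by rw [h.card]; norm_num) hA hg,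
      hK.Q_le, h.simple, Or.inl rfl⟩
  have hb := hK.cb hF
  obtain ⟨v, hc, hv, e⟩ := hK.exists_opp hF
  obtain ⟨φ⟩ := hb.iso hc hv
  have := simple_PO3
  have k := (Nat.card_congr φ.toEquiv).trans card_PO3
  exact ⟨_, holt h.pre hO φ.isSimpleGroup (hb.Q_le hc hv) (by rw [k]; norm_num) (by rw [k]; norm_num)
    (fun m hm => hb.norm hc hv e hm) fun g hg => hb.fus hc hv e h.toKS hg, hb.Q_le hc hv, φ.isSimpleGroup, Or.inr ⟨φ⟩⟩

theorem main [Finite G] (hG : Cfsg.IsOfParabolicCharacteristic 2 G) {ι : Om →* G} (hι : Function.Injective ι)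
    (hodd : ¬ 2 ∣ (normalizer (ι.range : Set G)).index) (hC : ∀ c : G, (∀ k ∈ ι.range, c * k = k * c) → c = 1) :
    Nonempty (Cfsg.generalizedFittingSubgroup G ≃* Om) ∨ Nonempty (Cfsg.generalizedFittingSubgroup G ≃* PO3) := by
  obtain ⟨z, y, n, h0⟩ := exists_K0
  have hK := ks_map h0 hι
  have pre := hK.pre hodd hG hC
  set N := normalClosure (ι.range : Set G) with hN
  have mem : ∀ g k, g * ι k * g⁻¹ ∈ N := fun g k =>
    normalClosure_normal.conj_mem _ (subset_normalClosure (show ι k ∈ (ι.range : Set G) from ⟨k, rfl⟩)) g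
  let ι₁ : Om →* N := ι.codRestrict N fun k => subset_normalClosure ⟨k, rfl⟩
  have hι₁ : Function.Injective ι₁ := fun a b e => hι (congrArg Subtype.val e)
  have hQ : (QQ fun i j => ι₁ (y i j)).map N.subtype = QQ fun i j => ι (y i j) := (QQ_map _ _).symm
  have hr : ι₁.range = ι.range.subgroupOf N := by
    ext x
    exact ⟨fun ⟨k, e⟩ => ⟨k, congrArg Subtype.val e⟩, fun ⟨k, e⟩ => ⟨k, Subtype.ext e⟩⟩
  obtain ⟨M, h1, h2, h3, h4⟩ := Hyp.core ⟨ks_map h0 hι₁, pre_comap pre N.subtype_injective hQ rfl, fun hd => by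
      obtain ⟨T, hT, -⟩ := hK.toK0.exists_T hodd
      rw [hr, ← subgroupOf_normalizer_eq le_normalClosure] at hd
      exact (Tech.sylow_inf_normal T N).not_dvd (hd.trans (relIndex_dvd_of_le_left N (inf_le_left.trans hT)))⟩
    fun M hM => by
      have := normal_of_index_eq_two hM
      have := simple_Om
      have : N ≤ M.map N.subtype := (closure_le _).2 fun x hx => by
        obtain ⟨_, ⟨k, rfl⟩, hc⟩ := Group.mem_conjugatesOfSet_iff.1 hx
        obtain ⟨g, rfl⟩ := isConj_iff.1 hc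
        let φ : Om →* N := ((MulAut.conj g).toMonoidHom.comp ι).codRestrict N (mem g)
        rcases IsSimpleGroup.eq_bot_or_eq_top_of_normal (M.comap φ) inferInstance with e | e
        · refine absurd (mem_bot.1 (e.le (?_ : φ z ∈ M))) h0.fr.z1
          rw [← h0.fr.sq 0 0, map_mul]
          exact mul_self_mem_of_index_two hM _
        · exact ⟨φ k, e.ge (mem_top k), rfl⟩
      rw [show M = ⊤ from eq_top_iff.2 fun x _ => (mem_map_iff_mem N.subtype_injective).1 (this x.2),
        index_top] at hM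
      exact absurd hM (by decide)
  subst h1
  have := Comp.fstar_characteristic (G := N)
  let e := (Cfsg.generalizedFittingSubgroup N).equivMapOfInjective _ N.subtype_injective
  have := e.symm.isSimpleGroup
  have k := (MulEquiv.subgroupCongr (E62.fstar_eq_of_pre pre (hQ ▸ map_mono h2))).trans e.symm
  exact h4.imp (fun h => ⟨(k.trans (MulEquiv.subgroupCongr h)).trans (MonoidHom.ofInjective hι₁).symm⟩)
    fun ⟨φ⟩ => ⟨k.trans φ⟩

end CfsgLib.O83
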